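import Groth.Agent.SmLiftCrit.Converse
/-!
Smoothness of a morphism of schemes from liftings of Artinian points.
-/

set_option autoImplicit false

universe u

open CategoryTheory AlgebraicGeometry IsLocalRing

namespace Groth.Agent.SmLiftCrit

variable {X Y : Scheme.{u}} (f : X ⟶ Y)

theorem lfp_of_noetherian [LocallyOfFiniteType f] [IsLocallyNoetherian Y] : LocallyOfFinitePresentation f := by
  rw [HasRingHomProperty.iff_appLE (P := @LocallyOfFinitePresentation)]
  intro W E e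
  haveI : IsNoetherianRing ↥Γ(Y, W) := IsLocallyNoetherian.component_noetherian W
  exact RingHom.FinitePresentation.of_finiteType.1
    (HasRingHomProperty.appLE (P := @LocallyOfFiniteType) f ‹_› W E e)

/-- The stalk map is formally smooth if maps of Artinian rings lift along small extensions. -/
theorem formallySmooth_stalkMap_of_lift [LocallyOfFiniteType f] [IsLocallyNoetherian Y] {V : Y.Opens}
    (hV : IsAffineOpen V) {W : X.Opens} (hW : IsAffineOpen W) (e : W ≤ f ⁻¹ᵁ V) {x : X} (hx : x ∈ W)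
    (H : ∀ (A : Type u) [CommRing A] [IsLocalRing A] [IsArtinianRing A] (φ : Γ(Y, V) →+* A) (J : Ideal A)
      [IsLocalRing (A ⧸ J)], (∃ t : A, J = Ideal.span {t} ∧ ∀ a ∈ maximalIdeal A, a * t = 0) →
      ∀ g : Γ(X, W) →+* A ⧸ J, g.comp (f.appLE V W e).hom = (Ideal.Quotient.mk J).comp φ →
        (maximalIdeal (A ⧸ J)).comap g = (hW.primeIdealOf ⟨x, hx⟩).asIdeal →
        (∀ y : A ⧸ J, ∃ s u, u ∉ (hW.primeIdealOf ⟨x, hx⟩).asIdeal ∧ g u * y - g s ∈ maximalIdeal (A ⧸ J)) →
        ∃ g' : Γ(X, W) →+* A, g'.comp (f.appLE V W e).hom = φ ∧ (Ideal.Quotient.mk J).comp g' = g) :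
    (f.stalkMap x).hom.FormallySmooth := by
  letI := (f.appLE V W e).hom.toAlgebra
  haveI : IsNoetherianRing ↥Γ(Y, V) := IsLocallyNoetherian.component_noetherian ⟨V, hV⟩
  haveI : Algebra.FiniteType Γ(Y, V) Γ(X, W) :=
    HasRingHomProperty.appLE (P := @LocallyOfFiniteType) f ‹_› ⟨V, hV⟩ ⟨W, hW⟩ e
  haveI : Algebra.FinitePresentation Γ(Y, V) Γ(X, W) := Algebra.FinitePresentation.of_finiteType.1 inferInstance
  refine (formallySmooth_stalkMap_iff V hV W hW e hx).2 ?_
  obtain ⟨g₀, hg₀, hsm⟩ := isSmoothAt_of_lift (R := Γ(Y, V)) (hW.primeIdealOf ⟨x, hx⟩).asIdeal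
    fun A _ _ _ _ J _ hJ g hq hres => by
      obtain ⟨g', hg1, hg2⟩ := H A (algebraMap Γ(Y, V) A) J hJ g.toRingHom (RingHom.ext fun r => g.commutes r) hq hres
      exact ⟨{ g' with commutes' := fun r => RingHom.congr_fun hg1 r }, AlgHom.coe_ringHom_injective hg2⟩
  exact (Algebra.basicOpen_subset_smoothLocus_iff_smooth.2 hsm) hg₀

/-- A morphism is smooth near a point iff its stalk map is formally smooth. -/
theorem smooth_nhd_iff [LocallyOfFinitePresentation f] (x : X) :
    (∃ U : X.Opens, x ∈ U ∧ Smooth (U.ι ≫ f)) ↔ (f.stalkMap x).hom.FormallySmooth := by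
  constructor
  · rintro ⟨U, hx, hU⟩
    have h : U.ι ⁻¹ᵁ f.smoothLocus = ⊤ := by
      rw [Scheme.Hom.preimage_smoothLocus_eq, Scheme.Hom.smoothLocus_eq_top]
    exact h.ge (TopologicalSpace.Opens.mem_top (⟨x, hx⟩ : U.toScheme))
  · intro h
    refine ⟨f.smoothLocus, h, Scheme.Hom.smoothLocus_eq_top_iff.1 ?_⟩
    rw [← Scheme.Hom.preimage_smoothLocus_eq, Scheme.Opens.ι_preimage_self]

theorem subsingleton_spec_artinian (A : Type u) [CommRing A] [IsLocalRing A] [IsArtinianRing A] :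
    Subsingleton (Spec (CommRingCat.of A)) :=
  ⟨fun a b => PrimeSpectrum.ext ((IsLocalRing.eq_maximalIdeal inferInstance).trans
    (IsLocalRing.eq_maximalIdeal (IsArtinianRing.isMaximal_of_isPrime b.asIdeal)).symm)⟩

end Groth.Agent.SmLiftCrit
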