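import Groth.Agent.SmLiftCrit.Converse
import Groth.Agent.ASp.Infinitesimal
/-!
Smoothness of algebraic spaces over a locally Noetherian base from liftings.
-/

set_option autoImplicit false
set_option backward.isDefEq.respectTransparency false
set_option backward.isDefEq.respectTransparency.types false

universe u

open CategoryTheory CategoryTheory.Limits AlgebraicGeometry Opposite

namespace Groth.Agent.SmLiftCrit

open _root_.AlgSp Groth.Agent.ASp

variable {S : Scheme.{u}}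

/-- Every point of a chart has a pair of affine charts around it. -/
theorem exists_affine_chart_at {X Y : Sp S} {f : X ⟶ Y} (hft : LocP @LocallyOfFiniteType f) {U V : Over S}
    {a : (yon S).obj U ⟶ X} {b : (yon S).obj V ⟶ Y} {k : U ⟶ V} (ha : RepWith @Etale a) (hb : RepWith @Etale b)
    (he : a ≫ f = (yon S).map k ≫ b) (u : ↥U.left) :
    ∃ (U₁ V₁ : Over S) (jU : U₁ ⟶ U) (jV : V₁ ⟶ V) (k₁ : U₁ ⟶ V₁), IsAffine U₁.left ∧ IsAffine V₁.left ∧
      IsOpenImmersion jU.left ∧ IsOpenImmersion jV.left ∧ k₁ ≫ jV = jU ≫ k ∧ u ∈ Set.range jU.left ∧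
      RepWith @Etale ((yon S).map jU ≫ a) ∧ RepWith @Etale ((yon S).map jV ≫ b) ∧
      ((yon S).map jU ≫ a) ≫ f = (yon S).map k₁ ≫ ((yon S).map jV ≫ b) ∧ LocallyOfFiniteType k₁.left := by
  obtain ⟨V₀, hV₀, hv, -⟩ := exists_isAffineOpen_mem_and_subset (x := k.left u) (U := (⊤ : V.left.Opens)) (by simp)
  obtain ⟨U₀, hU₀, huU, hUV⟩ := exists_isAffineOpen_mem_and_subset (x := u) (U := k.left ⁻¹ᵁ V₀) hv
  let V₁ : Over S := Over.mk (V₀.ι ≫ V.hom)
  let U₁ : Over S := Over.mk (U₀.ι ≫ U.hom)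
  let jV : V₁ ⟶ V := Over.homMk V₀.ι rfl
  let jU : U₁ ⟶ U := Over.homMk U₀.ι rfl
  have hr : Set.range (U₀.ι ≫ k.left) ⊆ Set.range V₀.ι := by
    rintro _ ⟨x, rfl⟩
    exact (Scheme.Opens.range_ι V₀).symm.subset (hUV x.2)
  let k₁ : U₁ ⟶ V₁ := Over.homMk (IsOpenImmersion.lift V₀.ι (U₀.ι ≫ k.left) hr) (by
    show IsOpenImmersion.lift V₀.ι (U₀.ι ≫ k.left) hr ≫ V₀.ι ≫ V.hom = U₀.ι ≫ U.hom
    rw [IsOpenImmersion.lift_fac_assoc, Category.assoc, Over.w k])
  have hk : k₁ ≫ jV = jU ≫ k := Over.OverMorphism.ext (IsOpenImmersion.lift_fac _ _ _)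
  have ha₁ : RepWith @Etale ((yon S).map jU ≫ a) := repWith_comp (repWith_yon_map (inferInstanceAs (Etale U₀.ι))) ha
  have hb₁ : RepWith @Etale ((yon S).map jV ≫ b) := repWith_comp (repWith_yon_map (inferInstanceAs (Etale V₀.ι))) hb
  have he₁ : ((yon S).map jU ≫ a) ≫ f = (yon S).map k₁ ≫ ((yon S).map jV ≫ b) := by
    rw [Category.assoc, he, ← Functor.map_comp_assoc, ← Functor.map_comp_assoc, hk]
  exact ⟨U₁, V₁, jU, jV, k₁, hU₀, hV₀, inferInstanceAs (IsOpenImmersion U₀.ι), inferInstanceAs (IsOpenImmersion V₀.ι),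
    hk, (Scheme.Opens.range_ι U₀).symm.subset huU, ha₁, hb₁, he₁, hft _ _ k₁ ha₁ hb₁ he₁⟩

/-- Smoothness of an affine piece follows from smoothness at its closed points. -/
theorem smooth_of_closedPoints {U V : Scheme.{u}} (k : U ⟶ V) [CompactSpace U]
    (h : ∀ u : U, IsClosed ({u} : Set U) → ∃ W : U.Opens, u ∈ W ∧ Smooth (W.ι ≫ k)) : Smooth k := by
  have key : ∀ x : U, ∃ W : U.Opens, x ∈ W ∧ Smooth (W.ι ≫ k) := fun x => by
    obtain ⟨z, hz, hzc⟩ := IsClosed.exists_closed_singleton (isClosed_closure (s := ({x} : Set U)))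
      ⟨x, subset_closure rfl⟩
    obtain ⟨W, hzW, hW⟩ := h z hzc
    exact ⟨W, (specializes_iff_mem_closure.2 hz).mem_open W.2 hzW, hW⟩
  choose W hxW hW using key
  exact IsZariskiLocalAtSource.of_iSup_eq_top (P := @Smooth) W
    (TopologicalSpace.Opens.ext (Set.eq_univ_of_forall fun x => TopologicalSpace.Opens.mem_iSup.2 ⟨x, hxW x⟩)) hW

end Groth.Agent.SmLiftCrit
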