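import Mathlib
import Groth.Agent.AdicFS.SmallExt
import Groth.Agent.S9268
/-!
Smoothness at a prime from liftings along small extensions with the same residue field.
-/

set_option autoImplicit false

universe u

open IsLocalRing

namespace Groth.Agent.SmLiftCrit

/-- An algebra of finite type over a Noetherian ring is smooth at a prime if maps to Artinian rings with the
residue field of the prime lift along small extensions. -/
theorem isSmoothAt_of_lift {R S : Type u} [CommRing R] [IsNoetherianRing R] [CommRing S] [Algebra R S]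
    [Algebra.FiniteType R S] (q : Ideal S) [q.IsPrime]
    (H : ∀ (A : Type u) [CommRing A] [IsLocalRing A] [IsArtinianRing A] [Algebra R A] (J : Ideal A)
      [IsLocalRing (A ⧸ J)], (∃ t : A, J = Ideal.span {t} ∧ ∀ a ∈ maximalIdeal A, a * t = 0) →
      ∀ g : S →ₐ[R] A ⧸ J, (maximalIdeal (A ⧸ J)).comap g = q →
        (∀ y : A ⧸ J, ∃ s u : S, u ∉ q ∧ g u * y - g s ∈ maximalIdeal (A ⧸ J)) →
        ∃ g' : S →ₐ[R] A, (Ideal.Quotient.mkₐ R J).comp g' = g) :
    ∃ g : S, g ∉ q ∧ Algebra.Smooth R (Localization.Away g) := by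
  refine (Groth.Agent.S9268.result R S q).2 ?_
  let p := Ideal.comap (algebraMap R S) q
  letI := (Localization.localRingHom p q (algebraMap R S) rfl).toAlgebra
  haveI : IsLocalHom (algebraMap (Localization.AtPrime p) (Localization.AtPrime q)) :=
    Localization.isLocalHom_localRingHom p q (algebraMap R S) rfl
  haveI : IsScalarTower R (Localization.AtPrime p) (Localization.AtPrime q) := .of_algebraMap_eq fun a => by
    rw [RingHom.algebraMap_toAlgebra, Localization.localRingHom_to_map]
    exact IsScalarTower.algebraMap_apply R S _ a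
  haveI : IsNoetherianRing S := Algebra.FiniteType.isNoetherianRing R S
  haveI : IsNoetherianRing (Localization.AtPrime q) := IsLocalization.isNoetherianRing q.primeCompl _ inferInstance
  refine AdicFS.iff_lift_small.2 fun A _ _ _ _ _ J hJ hlen _ ψ _ hres => ?_
  letI : Algebra R A := ((algebraMap (Localization.AtPrime p) A).comp (algebraMap R (Localization.AtPrime p))).toAlgebra
  haveI : IsScalarTower R (Localization.AtPrime p) A := .of_algebraMap_eq fun _ => rfl
  obtain ⟨t, htJ, hspan⟩ : ∃ t ∈ J, J = Ideal.span {t} := by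
    haveI : IsSimpleModule A J := Module.length_eq_one_iff.1 hlen
    obtain ⟨t, ht, ht0⟩ : ∃ t ∈ J, t ≠ (0 : A) := by
      by_contra h
      push_neg at h
      haveI : Subsingleton J := ⟨fun a b => Subtype.ext ((h a a.2).trans (h b b.2).symm)⟩
      haveI : Nontrivial J := IsSimpleModule.nontrivial A J
      exact not_subsingleton J inferInstance
    refine ⟨t, ht, le_antisymm (fun x hx => ?_) ((Ideal.span_singleton_le_iff_mem J).2 ht)⟩
    obtain ⟨r, hr⟩ := IsSimpleModule.toSpanSingleton_surjective A (m := (⟨t, ht⟩ : J))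
      (fun h => ht0 (congrArg Subtype.val h)) ⟨x, hx⟩
    have h2 : r * t = x := congrArg Subtype.val hr
    rw [← h2]
    exact Ideal.mul_mem_left _ r (Ideal.mem_span_singleton_self t)
  have hann : ∀ a ∈ maximalIdeal A, a * t = 0 := fun a ha => by
    haveI : IsSimpleModule A J := Module.length_eq_one_iff.1 hlen
    by_contra h
    obtain ⟨r, hr⟩ := IsSimpleModule.toSpanSingleton_surjective A
      (m := (⟨a * t, Ideal.mul_mem_left _ a htJ⟩ : J)) (fun e => h (congrArg Subtype.val e)) ⟨t, htJ⟩
    have hr' : r * (a * t) = t := congrArg Subtype.val hr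
    have hu : IsUnit (1 - r * a) := isUnit_one_sub_self_of_mem_nonunits _ ((maximalIdeal A).mul_mem_left r ha)
    exact h (by rw [hu.mul_right_eq_zero.1 (show (1 - r * a) * t = 0 by rw [sub_mul, one_mul, mul_assoc, hr', sub_self]),
      mul_zero])
  let g : S →ₐ[R] A ⧸ J := (ψ.restrictScalars R).comp (IsScalarTower.toAlgHom R S (Localization.AtPrime q))
  have hg : (maximalIdeal (A ⧸ J)).comap g = q := by
    rw [← IsLocalization.AtPrime.comap_maximalIdeal (Localization.AtPrime q) q]
    ext s
    simp only [Ideal.mem_comap]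
    exact ⟨fun h => fun hu => h (hu.map ψ.toRingHom), fun h => fun hu => h (isUnit_of_map_unit ψ.toRingHom _ hu)⟩
  obtain ⟨g', hg'⟩ := H A J ⟨t, hspan, hann⟩ g hg (fun y => by
    obtain ⟨z, hz⟩ := hres.2 (residue _ y)
    obtain ⟨z, rfl⟩ := residue_surjective z
    obtain ⟨⟨s, u⟩, e⟩ := IsLocalization.surj q.primeCompl z
    refine ⟨s, u, u.2, ?_⟩
    have e' : ψ z - y ∈ maximalIdeal (A ⧸ J) := Ideal.Quotient.eq.1 hz
    have : g u * y - g s = -((g u) * (ψ z - y)) := by
      show ψ (algebraMap S _ (u : S)) * y - ψ (algebraMap S _ s) = _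
      rw [← e, map_mul]
      ring!
    rw [this]
    exact neg_mem (Ideal.mul_mem_left _ _ e'))
  have hunit : ∀ y : q.primeCompl, IsUnit (g' y) := fun y => by
    have h1 : IsUnit (g (y : S)) := by
      by_contra h
      exact y.2 (hg.le (show (g (y : S)) ∈ maximalIdeal (A ⧸ J) from h))
    rw [← hg'] at h1
    obtain ⟨w, hw⟩ := h1.exists_right_inv
    obtain ⟨w, rfl⟩ := Ideal.Quotient.mk_surjective w
    have hw' : g' y * w - 1 ∈ J := Ideal.Quotient.eq.1 (by simpa using hw)
    have hn : IsNilpotent (g' y * w - 1) := ⟨2, by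
      have := Ideal.pow_mem_pow hw' 2
      rw [hJ] at this
      exact this⟩
    have : IsUnit (g' y * w) := by simpa using hn.isUnit_add_one
    exact isUnit_of_mul_isUnit_left this
  let χ₀ : Localization.AtPrime q →ₐ[R] A := IsLocalization.liftAlgHom (M := q.primeCompl) (f := g') hunit
  have hχ₀ : ∀ s, χ₀ (algebraMap S _ s) = g' s := fun s => IsLocalization.lift_eq hunit s
  have hlin : χ₀.toRingHom.comp (algebraMap (Localization.AtPrime p) (Localization.AtPrime q)) =
      algebraMap (Localization.AtPrime p) A := by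
    refine IsLocalization.ringHom_ext p.primeCompl (RingHom.ext fun r => ?_)
    show χ₀ (algebraMap _ _ (algebraMap R (Localization.AtPrime p) r)) = _
    rw [← IsScalarTower.algebraMap_apply, AlgHom.commutes]
    rfl
  let χ : Localization.AtPrime q →ₐ[Localization.AtPrime p] A :=
    { χ₀.toRingHom with commutes' := fun r => RingHom.congr_fun hlin r }
  refine ⟨χ, AlgHom.coe_ringHom_injective (IsLocalization.ringHom_ext q.primeCompl (RingHom.ext fun s => ?_))⟩
  show Ideal.Quotient.mk J (χ₀ (algebraMap S _ s)) = ψ (algebraMap S _ s)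
  rw [hχ₀]
  exact AlgHom.congr_fun hg' s

end Groth.Agent.SmLiftCrit
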