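import Groth.Agent.SmLiftCrit.Space
import Groth.Agent.FpqcDesc.Noeth
/-!
Smoothness from liftings along small extensions of Artinian rings.
-/

set_option autoImplicit false
set_option backward.isDefEq.respectTransparency false
set_option backward.isDefEq.respectTransparency.types false

universe u

open CategoryTheory CategoryTheory.Limits AlgebraicGeometry Opposite

namespace Groth.Agent.SmLiftCrit

open _root_.AlgSp Groth.Agent.ASp

variable {S : Scheme.{u}}

theorem isLocallyNoetherian_of_chart {F : Sp S} (hF : IsLocNoethSp F) {U : Over S} {a : (yon S).obj U ⟶ F}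
    (ha : RepWith @Etale a) : IsLocallyNoetherian U.left := by
  obtain ⟨U₀, y, hye, hys, hU₀⟩ := hF
  obtain ⟨U₁, p, q, hpe, hps, hq, -⟩ := exists_etale_cover hye hys a
  haveI : IsLocallyNoetherian U₀.left := hU₀
  haveI : Etale p.left := hpe
  haveI : Surjective p.left := hps
  haveI : Etale q.left := etale_of_comp_eq (repWith_comp (repWith_yon_map hpe) ha) hye hq
  haveI : IsLocallyNoetherian U₁.left := LocallyOfFiniteType.isLocallyNoetherian q.left
  exact NoethDesc.of_fppf p.left

/-- An Artinian local algebra with residue field of finite type is of finite type. -/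
theorem finiteType_of_residue {R C A : Type u} [CommRing R] [CommRing C] [Algebra R C] [Algebra.FiniteType R C]
    [CommRing A] [IsLocalRing A] [IsArtinianRing A] [Algebra R A] {J : Ideal A} [IsLocalRing (A ⧸ J)]
    (g : C →ₐ[R] A ⧸ J) (hg : ∀ y : A ⧸ J, ∃ c, g c - y ∈ IsLocalRing.maximalIdeal (A ⧸ J)) :
    Algebra.FiniteType R A := by
  classical
  obtain ⟨gen, hgen⟩ := ‹Algebra.FiniteType R C›.out
  choose lft hlft using fun y : A ⧸ J => Ideal.Quotient.mk_surjective (I := J) y
  obtain ⟨mg, hmg⟩ : (IsLocalRing.maximalIdeal A).FG := IsNoetherian.noetherian _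
  let D := Algebra.adjoin R (↑(gen.image (fun c => lft (g c)) ∪ mg) : Set A)
  have hD : ∀ c : C, ∃ d ∈ D, Ideal.Quotient.mk J d = g c := by
    intro c
    have hc : c ∈ Algebra.adjoin R (gen : Set C) := by rw [hgen]; trivial
    induction hc using Algebra.adjoin_induction with
    | mem c hc => exact ⟨_, Algebra.subset_adjoin (Finset.mem_coe.2 (Finset.mem_union_left _ (Finset.mem_image_of_mem _ hc))), hlft _⟩
    | algebraMap r => exact ⟨_, D.algebraMap_mem r, (g.commutes r).symm⟩
    | add a b _ _ ha hb =>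
      obtain ⟨d, hd, ed⟩ := ha
      obtain ⟨d', hd', ed'⟩ := hb
      exact ⟨_, D.add_mem hd hd', by rw [map_add, map_add, ed, ed']⟩
    | mul a b _ _ ha hb =>
      obtain ⟨d, hd, ed⟩ := ha
      obtain ⟨d', hd', ed'⟩ := hb
      exact ⟨_, D.mul_mem hd hd', by rw [map_mul, map_mul, ed, ed']⟩
  have hm : ∀ a : A, ∃ d ∈ D, a - d ∈ IsLocalRing.maximalIdeal A := by
    intro a
    obtain ⟨c, hc⟩ := hg (Ideal.Quotient.mk J a)
    obtain ⟨d, hd, ed⟩ := hD c
    refine ⟨d, hd, ?_⟩
    haveI : IsLocalHom (Ideal.Quotient.mk J) := IsLocalHom.of_surjective _ Ideal.Quotient.mk_surjective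
    have h1 : Ideal.Quotient.mk J (a - d) ∈ IsLocalRing.maximalIdeal (A ⧸ J) := by
      rw [map_sub, ed, ← neg_sub]
      exact neg_mem hc
    exact fun hu => h1 (hu.map _)
  have key : ∀ k (a : A), ∃ d ∈ D, a - d ∈ IsLocalRing.maximalIdeal A ^ k := by
    intro k
    induction k with
    | zero => intro a; exact ⟨0, D.zero_mem, by simp⟩
    | succ k ih =>
      intro a
      obtain ⟨d, hd, had⟩ := hm a
      have : ∃ e ∈ D, (a - d) - e ∈ IsLocalRing.maximalIdeal A ^ (k + 1) := by
        rw [← hmg] at had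
        refine Submodule.span_induction (p := fun x _ => ∃ e ∈ D, x - e ∈ IsLocalRing.maximalIdeal A ^ (k + 1))
          ?_ ?_ ?_ ?_ had
        · intro x hx
          exact ⟨x, Algebra.subset_adjoin (Finset.mem_coe.2 (Finset.mem_union_right _ hx)), by simp⟩
        · exact ⟨0, D.zero_mem, by simp⟩
        · rintro x y _ _ ⟨e, he, hx⟩ ⟨e', he', hy⟩
          exact ⟨_, D.add_mem he he', by rw [add_sub_add_comm]; exact add_mem hx hy⟩
        · rintro r x hxm ⟨e, he, hx⟩
          obtain ⟨r', hr', hrr⟩ := ih r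
          refine ⟨r' * e, D.mul_mem hr' he, ?_⟩
          have hxm' : x ∈ IsLocalRing.maximalIdeal A := by rw [← hmg]; exact hxm
          have e1 : r • x - r' * e = (r - r') * x + r' * (x - e) := by rw [smul_eq_mul]; ring
          rw [e1]
          refine add_mem ?_ (Ideal.mul_mem_left _ _ hx)
          rw [pow_succ]
          exact Ideal.mul_mem_mul hrr hxm'
      obtain ⟨e, he, hae⟩ := this
      exact ⟨d + e, D.add_mem hd he, by rw [← sub_sub]; exact hae⟩
  obtain ⟨n, hn⟩ := IsArtinianRing.isNilpotent_jacobson_bot (R := A)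
  rw [IsLocalRing.jacobson_eq_maximalIdeal (⊥ : Ideal A) bot_ne_top] at hn
  refine ⟨⟨gen.image (fun c => lft (g c)) ∪ mg, ?_⟩⟩
  rw [eq_top_iff]
  intro a _
  obtain ⟨d, hd, had⟩ := key n a
  rw [hn] at had
  rwa [sub_eq_zero.1 had]

/-- Liftings along small extensions give smoothness at a point of a chart. -/
theorem smoothAt_of_lift {X Y : Sp S} {f : X ⟶ Y} (hX : IsAlgSpace X) (hY : IsAlgSpace Y) (hYn : IsLocNoethSp Y)
    {U V : Over S} {a : (yon S).obj U ⟶ X} {b : (yon S).obj V ⟶ Y} {k : U ⟶ V} (ha : RepWith @Etale a)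
    (hb : RepWith @Etale b) (he : a ≫ f = (yon S).map k ≫ b) [IsAffine U.left] [IsAffine V.left]
    [LocallyOfFiniteType k.left] (u : ↥U.left)
    (H : ∀ (B' B : Type u) [CommRing B'] [CommRing B] [IsLocalRing B'] [IsLocalRing B]
      [IsArtinianRing B'] [IsArtinianRing B] (π : B' →+* B), Function.Surjective π →
      (∃ t : B', RingHom.ker π = Ideal.span {t} ∧ ∀ a ∈ IsLocalRing.maximalIdeal B', a * t = 0) →
      ∀ (s : Spec (CommRingCat.of B') ⟶ S)
        (α : (yon S).obj (Over.mk (Spec.map (CommRingCat.ofHom π) ≫ s)) ⟶ X) (β : (yon S).obj (Over.mk s) ⟶ Y),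
        Points.ofPt α (IsLocalRing.closedPoint B) = Points.ofPt a u →
        (IsClosed ({u} : Set ↥U.left) → LocP @LocallyOfFiniteType β) →
        α ≫ f = (yon S).map (spMap π s) ≫ β →
        ∃ γ : (yon S).obj (Over.mk s) ⟶ X, (yon S).map (spMap π s) ≫ γ = α ∧ γ ≫ f = β) :
    ∃ W : U.left.Opens, u ∈ W ∧ Smooth (W.ι ≫ k.left) := by
  haveI : IsLocallyNoetherian V.left := isLocallyNoetherian_of_chart hYn hb
  haveI : IsNoetherianRing Γ(V.left, ⊤) := IsLocallyNoetherian.component_noetherian ⟨⊤, isAffineOpen_top _⟩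
  letI : Algebra Γ(V.left, ⊤) Γ(U.left, ⊤) := k.left.appTop.hom.toAlgebra
  haveI : Algebra.FiniteType Γ(V.left, ⊤) Γ(U.left, ⊤) :=
    (HasRingHomProperty.iff_of_isAffine (P := @LocallyOfFiniteType)).1 ‹LocallyOfFiniteType k.left›
  let q : Ideal Γ(U.left, ⊤) := (U.left.isoSpec.hom u).asIdeal
  have hq : IsClosed ({u} : Set ↥U.left) → q.IsMaximal := fun h => by
    rw [← PrimeSpectrum.isClosed_singleton_iff_isMaximal]
    have := U.left.isoSpec.hom.homeomorph.isClosedMap _ h
    rw [Set.image_singleton] at this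
    exact this
  have hspec : ∀ {Z : Scheme.{u}} [IsAffine Z] {R : CommRingCat.{u}} (φ : Γ(Z, ⊤) ⟶ R),
      Spec.map φ ≫ Z.isoSpec.inv ≫ Z.isoSpec.hom = Spec.map φ := fun φ => by simp
  obtain ⟨g₀, hg₀, hsm⟩ := isSmoothAt_of_lift (R := Γ(V.left, ⊤)) q fun A _ _ _ _ J _ hJ g hgq hgres => by
    haveI : IsArtinianRing (A ⧸ J) := Ideal.Quotient.mk_surjective.isArtinianRing
    let π := Ideal.Quotient.mk J
    let vA : Spec (CommRingCat.of A) ⟶ V.left :=
      Spec.map (CommRingCat.ofHom (algebraMap Γ(V.left, ⊤) A)) ≫ V.left.isoSpec.inv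
    let uB : Spec (CommRingCat.of (A ⧸ J)) ⟶ U.left := Spec.map (CommRingCat.ofHom g.toRingHom) ≫ U.left.isoSpec.inv
    have huv : uB ≫ k.left = Spec.map (CommRingCat.ofHom π) ≫ vA := by
      simp only [uB, vA, Category.assoc, ← Scheme.isoSpec_inv_naturality, ← Spec.map_comp_assoc]
      congr 2
      exact CommRingCat.hom_ext (RingHom.ext fun r => g.commutes r)
    let s := vA ≫ V.hom
    let v : Over.mk s ⟶ V := Over.homMk vA rfl
    let w : Over.mk (Spec.map (CommRingCat.ofHom π) ≫ s) ⟶ U := Over.homMk uB (by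
      show uB ≫ U.hom = Spec.map _ ≫ vA ≫ V.hom
      rw [← Over.w k, ← Category.assoc, huv, Category.assoc])
    have hwk : w ≫ k = spMap π s ≫ v := Over.OverMorphism.ext huv
    have hcp : uB (IsLocalRing.closedPoint (A ⧸ J)) = u := by
      apply U.left.isoSpec.hom.homeomorph.injective
      show U.left.isoSpec.hom (uB _) = U.left.isoSpec.hom u
      rw [← Scheme.Hom.comp_apply, Category.assoc, Iso.inv_hom_id, Category.comp_id]
      exact PrimeSpectrum.ext hgq
    obtain ⟨γ, hγ1, hγ2⟩ := H A (A ⧸ J) π Ideal.Quotient.mk_surjective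
      (by rw [Ideal.mk_ker]; exact hJ) s ((yon S).map w ≫ a) ((yon S).map v ≫ b)
      (by rw [ofPt_yon_map_comp]; exact congrArg _ hcp) (fun hu => by
        haveI := hq hu
        refine locP_comp (IsAlgSpace.yon_obj V) (locP_of_repWith (repWith_yon_map ?_)) (locP_of_repWith
          (repWith_mono (fun _ _ g (hg : Etale g) => (inferInstance : LocallyOfFiniteType g)) hb))
        haveI : Algebra.FiniteType Γ(V.left, ⊤) A := finiteType_of_residue g fun y => by
          obtain ⟨c, d, hd, hy⟩ := hgres y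
          obtain ⟨d', i, hi, hr⟩ := Ideal.IsMaximal.exists_inv ‹q.IsMaximal› hd
          refine ⟨c * d', ?_⟩
          have e1 : g (c * d') - y = -(g d' * (g d * y - g c)) + -(g i) * y := by
            have := congrArg g hr
            rw [map_add, map_mul, map_one] at this
            rw [map_mul]
            linear_combination (norm := ring1) (y) * this
          rw [e1]
          exact add_mem (neg_mem (Ideal.mul_mem_left _ _ hy)) (Ideal.mul_mem_right _ _ (neg_mem (hgq.ge hi)))
        haveI : LocallyOfFiniteType (Spec.map (CommRingCat.ofHom (algebraMap Γ(V.left, ⊤) A))) :=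
          (HasRingHomProperty.Spec_iff (P := @LocallyOfFiniteType)).2 (RingHom.finiteType_algebraMap.2 this)
        exact inferInstanceAs (LocallyOfFiniteType (_ ≫ _)))
      (by rw [Category.assoc, he, ← Functor.map_comp_assoc, hwk, Functor.map_comp, Category.assoc])
    have hnil : RingHom.ker π ≤ nilradical A := by
      rw [Ideal.mk_ker]
      obtain ⟨t, rfl, ht⟩ := hJ
      refine (Ideal.span_singleton_le_iff_mem _).2 ⟨2, ?_⟩
      rw [pow_two]
      exact ht t (fun hu => (IsLocalRing.maximalIdeal.isMaximal (A ⧸ Ideal.span {t})).ne_top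
        (Ideal.eq_top_of_isUnit_mem _ (x := (0 : A ⧸ Ideal.span {t})) (zero_mem _)
          (by rw [← Ideal.Quotient.eq_zero_iff_mem.2 (Ideal.mem_span_singleton_self t)]; exact hu.map _)))
    obtain ⟨γU, hγUa, hγU⟩ := EtUH.exists_desc (IsAlgSpace.yon_obj U) hX
      (fun W φ hφ => repWith_comp hφ ha) (spMap π s) (uh_spec_map π Ideal.Quotient.mk_surjective hnil) γ
      ((yon S).map w) hγ1.symm
    obtain ⟨γU, rfl⟩ := (yon S).map_surjective γU
    have hk : γU ≫ k = v := (yon S).map_injective (by
      haveI := (uh_spec_map π Ideal.Quotient.mk_surjective hnil).2.2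
      haveI : Surjective (spMap π s).left := this
      refine EtUH.eq_of_surjective (IsAlgSpace.yon_obj V) hY (fun W φ hφ => repWith_comp hφ hb) (spMap π s) ?_ ?_
      · rw [Functor.map_comp, Category.assoc, ← he, ← Category.assoc, hγUa, hγ2]
      · exact (congrArg (fun m => (yon S).map (spMap π s) ≫ m) ((yon S).map_comp γU k)).trans
          ((Category.assoc _ _ _).symm.trans ((congrArg (· ≫ (yon S).map k) hγU).trans
            (((yon S).map_comp w k).symm.trans ((congrArg (yon S).map hwk).trans ((yon S).map_comp _ _))))))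
    obtain ⟨φ, hφ⟩ := Spec.map_surjective (γU.left ≫ U.left.isoSpec.hom)
    have h1 : k.left.appTop ≫ φ = CommRingCat.ofHom (algebraMap Γ(V.left, ⊤) A) := Spec.map_injective (by
      rw [Spec.map_comp, hφ, Category.assoc, Scheme.isoSpec_hom_naturality, ← Category.assoc, ← Over.comp_left, hk]
      simp [v, vA])
    have h2 : φ ≫ CommRingCat.ofHom π = CommRingCat.ofHom g.toRingHom := Spec.map_injective (by
      rw [Spec.map_comp, hφ, ← Category.assoc]
      have h3 : spMap π s ≫ γU = w := (yon S).map_injective (by rw [Functor.map_comp, hγU])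
      have h4 : Spec.map (CommRingCat.ofHom π) ≫ γU.left = uB := congrArg CommaMorphism.left h3
      rw [h4]
      simp [uB])
    exact ⟨{ φ.hom with commutes' := fun r => congrArg (fun m => m.hom r) h1 },
      AlgHom.ext fun x => congrArg (fun m => m.hom x) h2⟩
  let j : Spec (CommRingCat.of (Localization.Away g₀)) ⟶ U.left :=
    Spec.map (CommRingCat.ofHom (algebraMap Γ(U.left, ⊤) (Localization.Away g₀))) ≫ U.left.isoSpec.inv
  haveI : IsOpenImmersion (Spec.map (CommRingCat.ofHom (algebraMap Γ(U.left, ⊤) (Localization.Away g₀)))) :=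
    IsOpenImmersion.of_isLocalization g₀
  haveI : IsOpenImmersion j := inferInstanceAs (IsOpenImmersion (_ ≫ _))
  refine ⟨j.opensRange, ?_, ?_⟩
  · obtain ⟨x, hx⟩ : U.left.isoSpec.hom u ∈ Set.range (PrimeSpectrum.comap (algebraMap Γ(U.left, ⊤) (Localization.Away g₀))) := by
      rw [PrimeSpectrum.localization_away_comap_range (Localization.Away g₀) g₀]
      exact hg₀
    refine ⟨x, ?_⟩
    apply U.left.isoSpec.hom.homeomorph.injective
    show U.left.isoSpec.hom (j x) = U.left.isoSpec.hom u
    rw [← Scheme.Hom.comp_apply, Category.assoc, Iso.inv_hom_id, Category.comp_id]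
    exact hx
  · haveI : Smooth (j ≫ k.left) := by
      have : Smooth (Spec.map (CommRingCat.ofHom (algebraMap Γ(V.left, ⊤) (Localization.Away g₀)))) :=
        (HasRingHomProperty.Spec_iff (P := @Smooth)).2 ((RingHom.smooth_algebraMap).2 hsm)
      have e : j ≫ k.left = Spec.map (CommRingCat.ofHom (algebraMap Γ(V.left, ⊤) (Localization.Away g₀))) ≫
          V.left.isoSpec.inv := by
        simp only [j, Category.assoc, ← Scheme.isoSpec_inv_naturality, ← Spec.map_comp_assoc]
        congr 2
      rw [e]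
      infer_instance
    rw [← j.isoOpensRange_inv_comp, Category.assoc]
    infer_instance

end Groth.Agent.SmLiftCrit
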