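import Groth.Prelude.Def_AlgSpDec
import Groth.Agent.SmLiftCrit.Ring
import Groth.Agent.EtUH.Desc
import Groth.Agent.TorsorLift.Mor
import Groth.Agent.ASp.Sub
import Groth.Agent.ASp.Morph
/-!
The infinitesimal lifting criterion of smoothness for algebraic spaces over a locally Noetherian base.
-/

set_option autoImplicit false
set_option backward.isDefEq.respectTransparency false
set_option backward.isDefEq.respectTransparency.types false

universe u

open CategoryTheory CategoryTheory.Limits AlgebraicGeometry Opposite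

namespace Groth.Agent.SmLiftCrit

open _root_.AlgSp Groth.Agent.ASp

variable {S : Scheme.{u}}

/-- The closed immersion of the spectra of a surjection of rings, over `S`. -/
noncomputable def spMap {B' B : Type u} [CommRing B'] [CommRing B] (π : B' →+* B)
    (s : Spec (CommRingCat.of B') ⟶ S) :
    Over.mk (Spec.map (CommRingCat.ofHom π) ≫ s) ⟶ Over.mk s :=
  Over.homMk (Spec.map (CommRingCat.ofHom π)) rfl

theorem surjective_spec_map {B' B : Type u} [CommRing B'] [CommRing B] (π : B' →+* B) (hπ : Function.Surjective π)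
    (h2 : RingHom.ker π ≤ nilradical B') : Surjective (Spec.map (CommRingCat.ofHom π)) := by
  refine ⟨fun x => ?_⟩
  have hx : x ∈ PrimeSpectrum.zeroLocus (RingHom.ker π : Set B') := fun a ha => nilradical_le_prime x.asIdeal (h2 ha)
  rw [← range_comap_of_surjective B π hπ] at hx
  exact hx

theorem uh_spec_map {B' B : Type u} [CommRing B'] [CommRing B] (π : B' →+* B) (hπ : Function.Surjective π)
    (h2 : RingHom.ker π ≤ nilradical B') : EtUH.UH (Spec.map (CommRingCat.ofHom π)) := by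
  haveI : IsClosedImmersion (Spec.map (CommRingCat.ofHom π)) :=
    IsClosedImmersion.spec_of_surjective (CommRingCat.ofHom π) hπ
  exact ⟨inferInstance, inferInstance, surjective_spec_map π hπ h2⟩

theorem ker_le_nilradical {B' B : Type u} [CommRing B'] [CommRing B] {π : B' →+* B}
    (h : RingHom.ker π ^ 2 = ⊥) : RingHom.ker π ≤ nilradical B' := fun x hx =>
  ⟨2, by have := Ideal.pow_mem_pow hx 2; rw [h] at this; exact this⟩

/-- A formally smooth morphism lifts along square-zero surjections. -/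
theorem exists_lift {X Y : Sp S} {f : X ⟶ Y} (hf : IsFormallySmoothMor f) {B' B : Type u} [CommRing B'] [CommRing B]
    (π : B' →+* B) (hπ : Function.Surjective π) (h2 : RingHom.ker π ^ 2 = ⊥) (s : Spec (CommRingCat.of B') ⟶ S)
    (α : (yon S).obj (Over.mk (Spec.map (CommRingCat.ofHom π) ≫ s)) ⟶ X) (β : (yon S).obj (Over.mk s) ⟶ Y)
    (e : α ≫ f = (yon S).map (spMap π s) ≫ β) :
    ∃ γ : (yon S).obj (Over.mk s) ⟶ X, (yon S).map (spMap π s) ≫ γ = α ∧ γ ≫ f = β := by
  let eq := RingHom.quotientKerEquivOfSurjective hπ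
  have h₁ : eq.toRingHom.comp (Ideal.Quotient.mk (RingHom.ker π)) = π := RingHom.ext fun x => rfl
  have h₂ : eq.symm.toRingHom.comp π = Ideal.Quotient.mk (RingHom.ker π) := RingHom.ext fun x =>
    eq.injective ((eq.apply_symm_apply (π x)).trans (RingHom.congr_fun h₁ x).symm)
  let c : Over.mk (Spec.map (CommRingCat.ofHom (Ideal.Quotient.mk (RingHom.ker π))) ≫ s) ⟶
      Over.mk (Spec.map (CommRingCat.ofHom π) ≫ s) :=
    Over.homMk (Spec.map (CommRingCat.ofHom eq.symm.toRingHom)) (by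
      show Spec.map _ ≫ Spec.map _ ≫ s = Spec.map _ ≫ s
      rw [← Spec.map_comp_assoc, ← CommRingCat.ofHom_comp, h₂])
  let d : Over.mk (Spec.map (CommRingCat.ofHom π) ≫ s) ⟶
      Over.mk (Spec.map (CommRingCat.ofHom (Ideal.Quotient.mk (RingHom.ker π))) ≫ s) :=
    Over.homMk (Spec.map (CommRingCat.ofHom eq.toRingHom)) (by
      show Spec.map _ ≫ Spec.map _ ≫ s = Spec.map _ ≫ s
      rw [← Spec.map_comp_assoc, ← CommRingCat.ofHom_comp, h₁])
  let sq : InfSq f :=
    { A := B'
      I := RingHom.ker π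
      sq_zero := h2
      str := s
      top := (yon S).map c ≫ α
      bot := β
      comm := by
        rw [Category.assoc, e, ← Functor.map_comp_assoc]
        congr 2
        refine Over.OverMorphism.ext ?_
        show Spec.map _ ≫ Spec.map _ = Spec.map _
        rw [← Spec.map_comp, ← CommRingCat.ofHom_comp, h₂] }
  obtain ⟨l, hl1, hl2⟩ := hf sq
  refine ⟨l, ?_, hl2⟩
  have hd : spMap π s = d ≫ sq.j := Over.OverMorphism.ext (by
    show Spec.map _ = Spec.map _ ≫ Spec.map _
    rw [← Spec.map_comp, ← CommRingCat.ofHom_comp, h₁])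
  have hdc : d ≫ c = 𝟙 _ := Over.OverMorphism.ext (by
    show Spec.map _ ≫ Spec.map _ = 𝟙 _
    rw [← Spec.map_comp, ← CommRingCat.ofHom_comp, RingEquiv.toRingHom_eq_coe, RingEquiv.toRingHom_eq_coe,
      RingEquiv.comp_symm, CommRingCat.ofHom_id, Spec.map_id])
  rw [hd, Functor.map_comp, Category.assoc, hl1, ← Functor.map_comp_assoc, hdc]
  simp

theorem exists_open_range_of_etale {X : Sp S} (hX : IsAlgSpace X) {U : Over S} {a : (yon S).obj U ⟶ X}
    (ha : RepWith @Etale a) :
    ∃ (X₀ : Sp S) (j : X₀ ⟶ X) (a₀ : (yon S).obj U ⟶ X₀), IsAlgSpace X₀ ∧ RepWith @IsOpenImmersion j ∧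
      a₀ ≫ j = a ∧ RepWith @Etale a₀ ∧ RepWith @Surjective a₀ ∧
      ∀ {T : Over S} (x : (yon S).obj T ⟶ X), (∀ t, Points.ofPt x t ∈ Set.range (Points.map a)) →
        ∃ x₀, x₀ ≫ j = x := by
  let W := Set.range (Points.map a)
  have hW : IsOpen W := (isOpenMap_map_of_etale ha).isOpen_range
  have hj := repWith_subι X W hW
  obtain ⟨a₀, ha₀⟩ := exists_fac_subι a (W := W) subset_rfl
  haveI : Mono (subι X W) := inferInstance
  have hsq : IsPullback a₀ (𝟙 ((yon S).obj U)) (subι X W) a :=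
    IsPullback.of_isLimit' ⟨by rw [ha₀, Category.id_comp]⟩
      (PullbackCone.IsLimit.mk _ (fun s => s.snd) (fun s => by
          rw [← cancel_mono (subι X W), Category.assoc, ha₀]; exact s.condition.symm)
        (fun s => Category.comp_id _) (fun s m _ h => (Category.comp_id m).symm.trans h))
  have hcart : IsPullback (𝟙 ((yon S).obj U)) a₀ a (subι X W) := hsq.flip
  have he : RepWith @Etale a₀ := repWith_of_isPullback hcart ha
  have himm : RepWith @IsImmersion (subι X W) :=
    repWith_mono (fun _ _ g (hg : IsOpenImmersion g) => (inferInstance : IsImmersion g)) hj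
  refine ⟨_, subι X W, a₀, isAlgSpace_subSp hX hW, hj, ha₀, he, (repWith_surjective_iff he.1).2 fun y => ?_,
    fun x h => exists_lift_subι X W x h⟩
  obtain ⟨z, hz⟩ := (range_map_subι X W).subset ⟨y, rfl⟩
  exact ⟨z, (isEmbedding_of_immersion hX himm).1.injective (by rw [← Points.map_comp, ha₀, hz])⟩

/-- A morphism whose composite with an etale surjection factors through a monomorphism factors. -/
theorem exists_desc_of_epi_range {X₀ Y Y₀ : Sp S} {U : Over S} (g : X₀ ⟶ Y) (j : Y₀ ⟶ Y) [Mono j]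
    (a₀ : (yon S).obj U ⟶ X₀) (he : RepWith @Etale a₀) (hs : RepWith @Surjective a₀) (m : (yon S).obj U ⟶ Y₀)
    (hm : m ≫ j = a₀ ≫ g) : ∃ f₀ : X₀ ⟶ Y₀, a₀ ≫ f₀ = m ∧ f₀ ≫ j = g := by
  haveI : Epi a₀ := epi_of_etale_surjective he hs
  obtain ⟨R, r₁, r₂, hR⟩ := exists_isPullback_yon he.1 a₀
  obtain ⟨f₀, hf₀⟩ := exists_desc_of_epi a₀ hR m (by
    rw [← cancel_mono j, Category.assoc, Category.assoc, hm, ← Category.assoc, hR.w, Category.assoc])
  exact ⟨f₀, hf₀, by rw [← cancel_epi a₀, reassoc_of% hf₀, hm]⟩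

theorem mem_of_closedPoint {X : Sp S} {B : Type u} [CommRing B] [IsLocalRing B] {s : Spec (CommRingCat.of B) ⟶ S}
    (x : (yon S).obj (Over.mk s) ⟶ X) {W : Set (Points X)} (hW : IsOpen W)
    (h : Points.ofPt x (IsLocalRing.closedPoint B) ∈ W) (t : ↥(Spec (CommRingCat.of B))) : Points.ofPt x t ∈ W := by
  let O : TopologicalSpace.Opens (PrimeSpectrum B) :=
    ⟨Points.ofPt x ⁻¹' W, hW.preimage (Points.continuous_ofPt x)⟩
  have hO : O = ⊤ := IsLocalRing.closed_point_mem_iff.1 h
  have : (t : PrimeSpectrum B) ∈ O := by rw [hO]; trivial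
  exact this

/-- A morphism smooth at a point lifts along square-zero surjections of local rings centred at the point. -/
theorem exists_lift_of_smoothAt {X Y : Space S} {f : X ⟶ Y} {x : Points X.obj}
    (h : HasAtMor (fun U _ h u => ∃ W : U.Opens, u ∈ W ∧ Smooth (W.ι ≫ h)) f.hom x)
    {B' B : Type u} [CommRing B'] [CommRing B] [IsLocalRing B'] [IsLocalRing B] (π : B' →+* B)
    (hπ : Function.Surjective π) (h2 : RingHom.ker π ^ 2 = ⊥) (s : Spec (CommRingCat.of B') ⟶ S)
    (α : (yon S).obj (Over.mk (Spec.map (CommRingCat.ofHom π) ≫ s)) ⟶ X.obj)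
    (β : (yon S).obj (Over.mk s) ⟶ Y.obj) (hx : Points.ofPt α (IsLocalRing.closedPoint B) = x)
    (e : α ≫ f.hom = (yon S).map (spMap π s) ≫ β) :
    ∃ γ : (yon S).obj (Over.mk s) ⟶ X.obj, (yon S).map (spMap π s) ≫ γ = α ∧ γ ≫ f.hom = β := by
  obtain ⟨U, V, a, b, k, u, ha, hb, he, hu, W, huW, hW⟩ := h
  let Wo : Over S := Over.mk (W.ι ≫ U.hom)
  let w : Wo ⟶ U := Over.homMk W.ι rfl
  have haw : RepWith @Etale ((yon S).map w ≫ a) :=
    repWith_comp (repWith_yon_map (inferInstanceAs (Etale W.ι))) ha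
  have hew : ((yon S).map w ≫ a) ≫ f.hom = (yon S).map (w ≫ k) ≫ b := by
    rw [Category.assoc, he, Functor.map_comp, Category.assoc]
  obtain ⟨X₀, jX, a₀, hX₀, hjX, ha₀, ha₀e, ha₀s, hliftX⟩ := exists_open_range_of_etale X.property haw
  obtain ⟨Y₀, jY, b₀, hY₀, hjY, hb₀, hb₀e, hb₀s, hliftY⟩ := exists_open_range_of_etale Y.property hb
  haveI : Mono jY := mono_of_repWith (P := @IsOpenImmersion)
    (fun g hg => haveI : IsOpenImmersion g := hg; inferInstance) hjY
  obtain ⟨α₀, hα₀⟩ := hliftX α (mem_of_closedPoint α (isOpenMap_map_of_etale haw).isOpen_range (by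
    rw [hx]
    refine ⟨Points.schemeHomeo Wo ⟨u, huW⟩, ?_⟩
    rw [Points.map_comp, Points.map_yon_map_apply]
    exact hu))
  obtain ⟨β₀, hβ₀⟩ := hliftY β (mem_of_closedPoint β (isOpenMap_map_of_etale hb).isOpen_range (by
    haveI : IsLocalHom π := IsLocalHom.of_surjective π hπ
    have hcl : (spMap π s).left (IsLocalRing.closedPoint B) = IsLocalRing.closedPoint B' :=
      IsLocalRing.comap_closedPoint π
    have h1 : Points.ofPt β (IsLocalRing.closedPoint B') = Points.map f.hom x := by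
      rw [← hcl, ← ofPt_yon_map_comp, ← e, ← Points.map_ofPt, hx]
    rw [h1, ← hu]
    refine ⟨Points.schemeHomeo V (k.left u), ?_⟩
    have h2' : Points.map f.hom (Points.ofPt a u) = Points.ofPt (a ≫ f.hom) u := Points.map_ofPt _ _ _
    rw [h2', he, ofPt_yon_map_comp]
    rfl))
  obtain ⟨f₀, hf₀⟩ := exists_desc_of_epi_range (jX ≫ f.hom) jY a₀ ha₀e ha₀s ((yon S).map (w ≫ k) ≫ b₀)
    (by rw [Category.assoc, hb₀, ← hew, ← ha₀, Category.assoc])
  have hfs : IsFormallySmoothMor f₀ := TorsorLift.isFormallySmoothMor_of_chart a₀ b₀ (w ≫ k) ha₀e ha₀s hb₀e hb₀s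
    hf₀.1 ((SmoothLiftLib.smooth_iff _).1 hW).2
  obtain ⟨γ, hγ1, hγ2⟩ := exists_lift hfs π hπ h2 s α₀ β₀ (by
    rw [← cancel_mono jY, Category.assoc, hf₀.2, reassoc_of% hα₀, e, Category.assoc, hβ₀])
  refine ⟨γ ≫ jX, by rw [reassoc_of% hγ1, hα₀], ?_⟩
  rw [Category.assoc, ← hf₀.2, reassoc_of% hγ2, hβ₀]

end Groth.Agent.SmLiftCrit
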